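import Groth.Agent.H7Flat.LocalCriterion
import Mathlib.RingTheory.Filtration
import Mathlib.RingTheory.Nakayama

/-! Flatness from a basis modulo all powers of the maximal ideals. -/

set_option autoImplicit false
set_option linter.style.haveILetI false
universe u

open TensorProduct IsLocalRing

namespace Groth.Agent.H8Props.InertiaEtale

variable {A L : Type u} [CommRing A] [IsNoetherianRing A] [IsLocalRing A] [CommRing L] [IsNoetherianRing L]
  [IsLocalRing L] [Algebra A L] [IsLocalHom (algebraMap A L)] {d : ℕ} (e : Fin d → L)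

theorem map_pow_le_pow (n : ℕ) : (maximalIdeal A ^ n).map (algebraMap A L) ≤ maximalIdeal L ^ n := by
  rw [Ideal.map_pow]
  exact Ideal.pow_right_mono (Ideal.map_le_iff_le_comap.2 (IsLocalRing.maximalIdeal_comap (algebraMap A L)).ge) n

/-- A local map which is free modulo all powers of the maximal ideals is flat. -/
theorem flat_of_congr_pow
    (hsurj : ∀ (l : L) (n : ℕ), ∃ a : Fin d → A, l - ∑ i, algebraMap A L (a i) * e i ∈ maximalIdeal L ^ n)
    (hinj : ∀ n : ℕ, ∃ N : ℕ, ∀ a : Fin d → A,
      ∑ i, algebraMap A L (a i) * e i ∈ maximalIdeal L ^ N → ∀ i, a i ∈ maximalIdeal A ^ n) :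
    Module.Flat A L := by
  refine H7Flat.flat_of_injective (S := L) (M := L) ?_
  rw [injective_iff_map_eq_zero]
  intro w hw
  let m := maximalIdeal A
  have key : ∀ n : ℕ, w ∈ maximalIdeal L ^ n • (⊤ : Submodule L (L ⊗[A] m)) := by
    intro n
    obtain ⟨N, hN⟩ := hinj (n + 1)
    let N' := max n N
    have hrep : ∀ z : L ⊗[A] m, ∃ a : Fin d → m,
        z - ∑ i, e i ⊗ₜ[A] a i ∈ maximalIdeal L ^ N' • (⊤ : Submodule L (L ⊗[A] m)) := by
      intro z
      induction z using TensorProduct.induction_on with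
      | zero => exact ⟨0, by simp⟩
      | tmul l y =>
        obtain ⟨c, hc⟩ := hsurj l N'
        refine ⟨fun i => c i • y, ?_⟩
        have e' : l ⊗ₜ[A] y - ∑ i, e i ⊗ₜ[A] (c i • y) = (l - ∑ i, algebraMap A L (c i) * e i) • ((1 : L) ⊗ₜ[A] y) := by
          rw [TensorProduct.smul_tmul', smul_eq_mul, mul_one, TensorProduct.sub_tmul, TensorProduct.sum_tmul]
          refine congrArg _ (Finset.sum_congr rfl fun i _ => ?_)
          rw [← Algebra.smul_def, TensorProduct.smul_tmul]
        rw [e']
        exact Submodule.smul_mem_smul hc trivial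
      | add x y hx hy =>
        obtain ⟨a, ha⟩ := hx
        obtain ⟨b, hb⟩ := hy
        refine ⟨a + b, ?_⟩
        simp only [Pi.add_apply, TensorProduct.tmul_add, Finset.sum_add_distrib]
        rw [add_sub_add_comm]
        exact add_mem ha hb
    obtain ⟨a, ha⟩ := hrep w
    let g : L ⊗[A] m →ₗ[L] L :=
      (TensorProduct.AlgebraTensorModule.rid A L L).toLinearMap ∘ₗ (m.subtype).baseChange L
    have hgw : g w = 0 := by
      show TensorProduct.AlgebraTensorModule.rid A L L ((m.subtype).lTensor L w) = 0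
      rw [hw, map_zero]
    have h1 : g (w - ∑ i, e i ⊗ₜ[A] a i) ∈ maximalIdeal L ^ N' :=
      Submodule.smul_induction_on ha
        (fun c hc x _ => by rw [map_smul, smul_eq_mul]; exact Ideal.mul_mem_right _ _ hc)
        (fun x y hx hy => by rw [map_add]; exact add_mem hx hy)
    have h3 : ∑ i, algebraMap A L (a i : A) * e i ∈ maximalIdeal L ^ N := by
      refine Ideal.pow_le_pow_right (le_max_right n N) ?_
      rw [map_sub, hgw, zero_sub, neg_mem_iff, map_sum] at h1
      simpa [g, Algebra.smul_def] using h1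
    have h5 : ∀ i, a i ∈ m ^ n • (⊤ : Submodule A m) := fun i => by
      refine (Submodule.mem_smul_top_iff _ _ (a i)).2 ?_
      have := hN _ h3 i
      rwa [pow_succ] at this
    have h6 : ∀ i, e i ⊗ₜ[A] a i ∈ maximalIdeal L ^ n • (⊤ : Submodule L (L ⊗[A] m)) := fun i => by
      refine Submodule.smul_induction_on (h5 i) (fun c hc y _ => ?_) (fun x y hx hy => ?_)
      · rw [TensorProduct.tmul_smul, ← algebraMap_smul L c (e i ⊗ₜ[A] y)]
        exact Submodule.smul_mem_smul (map_pow_le_pow n (Ideal.mem_map_of_mem _ hc)) trivial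
      · rw [TensorProduct.tmul_add]
        exact add_mem hx hy
    have h7 := add_mem (Submodule.smul_mono_left (Ideal.pow_le_pow_right (le_max_left n N)) ha)
      (sum_mem (t := Finset.univ) fun i _ => h6 i)
    rwa [sub_add_cancel] at h7
  have hb := Ideal.iInf_pow_smul_eq_bot_of_isLocalRing (M := L ⊗[A] m) (maximalIdeal L)
    (maximalIdeal.isMaximal L).ne_top
  have : w ∈ ⨅ n : ℕ, maximalIdeal L ^ n • (⊤ : Submodule L (L ⊗[A] m)) := (Submodule.mem_iInf _).2 key
  rwa [hb, Submodule.mem_bot] at this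

omit [IsNoetherianRing A] in
theorem map_maximalIdeal_of_congr_pow
    (hsurj : ∀ l : L, ∃ a : Fin d → A, l - ∑ i, algebraMap A L (a i) * e i ∈ maximalIdeal L ^ 2)
    (hinj : ∀ a : Fin d → A, ∑ i, algebraMap A L (a i) * e i ∈ maximalIdeal L → ∀ i, a i ∈ maximalIdeal A) :
    (maximalIdeal A).map (algebraMap A L) = maximalIdeal L := by
  have hle : (maximalIdeal A).map (algebraMap A L) ≤ maximalIdeal L :=
    Ideal.map_le_iff_le_comap.2 (IsLocalRing.maximalIdeal_comap (algebraMap A L)).ge
  refine le_antisymm hle (Submodule.le_of_le_smul_of_le_jacobson_bot (IsNoetherian.noetherian _)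
    (IsLocalRing.maximalIdeal_le_jacobson (R := L) ⊥) fun b hb => ?_)
  obtain ⟨a, ha⟩ := hsurj b
  have hab : ∑ i, algebraMap A L (a i) * e i ∈ maximalIdeal L := by
    have := sub_mem hb (Ideal.pow_le_self two_ne_zero ha)
    rwa [sub_sub_cancel] at this
  refine Submodule.mem_sup.2 ⟨_, sum_mem fun i _ => Ideal.mul_mem_right (e i) _
    (Ideal.mem_map_of_mem _ (hinj a hab i)), b - ∑ i, algebraMap A L (a i) * e i, ?_, add_sub_cancel _ _⟩
  rwa [smul_eq_mul, ← pow_two]

end Groth.Agent.H8Props.InertiaEtale
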