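import Mathlib

/-! Expansions modulo powers and invariants modulo powers. -/

set_option autoImplicit false
set_option linter.style.haveILetI false
universe u

open IsLocalRing

namespace Groth.Agent.H8Props.InertiaEtale

section Expansion

variable {B A : Type u} [CommRing B] [IsLocalRing B] [CommRing A] [IsLocalRing A] [Algebra B A]
  (hmax : (maximalIdeal B).map (algebraMap B A) = maximalIdeal A) {d : ℕ} (e : Fin d → A)
include hmax

/-- Expansions along a spanning family modulo the maximal ideal exist modulo all powers. -/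
theorem exists_expansion (hspan : ∀ a, ∃ b : Fin d → B, a - ∑ i, algebraMap B A (b i) * e i ∈ maximalIdeal A)
    (n : ℕ) (a : A) : ∃ b : Fin d → B, a - ∑ i, algebraMap B A (b i) * e i ∈ maximalIdeal A ^ n := by
  induction n with
  | zero => exact ⟨0, by simp⟩
  | succ n ih =>
    obtain ⟨b, hb⟩ := ih
    suffices ∀ z ∈ (maximalIdeal B ^ n).map (algebraMap B A), ∃ c : Fin d → B, (∀ i, c i ∈ maximalIdeal B ^ n) ∧
        z - ∑ i, algebraMap B A (c i) * e i ∈ maximalIdeal A ^ (n + 1) by
      obtain ⟨c, -, hc⟩ := this _ (by rwa [Ideal.map_pow, hmax])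
      refine ⟨b + c, ?_⟩
      simp only [Pi.add_apply, map_add, add_mul, Finset.sum_add_distrib]
      rwa [← sub_sub]
    have hmn : ∀ c ∈ maximalIdeal B ^ n, algebraMap B A c ∈ maximalIdeal A ^ n := fun c hc => by
      rw [← hmax, ← Ideal.map_pow]
      exact Ideal.mem_map_of_mem _ hc
    intro z hz
    induction hz using Submodule.span_induction with
    | mem x hx =>
      obtain ⟨c, hc, rfl⟩ := hx
      obtain ⟨v, hv⟩ := hspan 1
      refine ⟨fun i => c * v i, fun i => Ideal.mul_mem_right _ _ hc, ?_⟩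
      have e1 : algebraMap B A c - ∑ i, algebraMap B A (c * v i) * e i =
          algebraMap B A c * (1 - ∑ i, algebraMap B A (v i) * e i) := by
        simp only [map_mul, mul_sub, mul_one, Finset.mul_sum, mul_assoc]
      rw [e1, pow_succ]
      exact Ideal.mul_mem_mul (hmn c hc) hv
    | zero => exact ⟨0, fun _ => zero_mem _, by simp⟩
    | add x y _ _ hx hy =>
      obtain ⟨c, hcm, hc⟩ := hx
      obtain ⟨c', hcm', hc'⟩ := hy
      refine ⟨c + c', fun i => add_mem (hcm i) (hcm' i), ?_⟩
      simp only [Pi.add_apply, map_add, add_mul, Finset.sum_add_distrib]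
      rw [add_sub_add_comm]
      exact add_mem hc hc'
    | smul r x _ hx =>
      obtain ⟨c, hcm, hc⟩ := hx
      choose v hv using fun i => hspan (r * e i)
      refine ⟨fun j => ∑ i, c i * v i j, fun j => sum_mem fun i _ => Ideal.mul_mem_right _ _ (hcm i), ?_⟩
      have e2 : r • x - ∑ j, algebraMap B A (∑ i, c i * v i j) * e j =
          r * (x - ∑ i, algebraMap B A (c i) * e i) +
            ∑ i, algebraMap B A (c i) * (r * e i - ∑ j, algebraMap B A (v i j) * e j) := by
        rw [smul_eq_mul]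
        simp only [map_sum, map_mul, mul_sub, Finset.sum_sub_distrib, Finset.mul_sum, Finset.sum_mul]
        rw [Finset.sum_comm (f := fun j i => algebraMap B A (c i) * algebraMap B A (v i j) * e j)]
        simp only [← mul_assoc, mul_comm r]
        ring
      rw [e2]
      refine add_mem (Ideal.mul_mem_left _ _ hc) (sum_mem fun i _ => ?_)
      rw [pow_succ]
      exact Ideal.mul_mem_mul (hmn _ (hcm i)) (hv i)

omit hmax in
/-- For flat maps a family independent modulo the maximal ideal is independent modulo every ideal. -/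
theorem mem_of_expansion_mem_map [Module.Flat B A] [IsLocalHom (algebraMap B A)]
    (hind : ∀ b : Fin d → B, ∑ i, algebraMap B A (b i) * e i ∈ maximalIdeal A → ∀ i, b i ∈ maximalIdeal B)
    (I : Ideal B) (b : Fin d → B) (hb : ∑ i, algebraMap B A (b i) * e i ∈ I.map (algebraMap B A)) :
    ∀ i, b i ∈ I := by
  classical
  obtain ⟨s, c, hs⟩ : ∃ (s : Finset I) (c : I → A), ∑ j ∈ s, c j * algebraMap B A (j : B) =
      ∑ i, algebraMap B A (b i) * e i := by
    rw [Ideal.map, Ideal.span, Set.image_eq_range] at hb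
    obtain ⟨c, hc⟩ := (Finsupp.mem_span_range_iff_exists_finsupp).1 hb
    exact ⟨c.support, c, hc⟩
  let f : Fin d ⊕ s → B := Sum.elim b fun j => -((j.1 : I) : B)
  let x : Fin d ⊕ s → A := Sum.elim e fun j => c j.1
  have hrel : ∑ i, f i • x i = 0 := by
    simp only [f, x, Fintype.sum_sum_type, Sum.elim_inl, Sum.elim_inr, neg_smul, Finset.sum_neg_distrib]
    rw [Finset.sum_coe_sort s (fun j => (j : B) • c j), add_neg_eq_zero]
    simp only [Algebra.smul_def]
    rw [← hs]
    exact Finset.sum_congr rfl fun j _ => mul_comm _ _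
  obtain ⟨l, a, y, hay, hfa⟩ := Module.Flat.isTrivialRelation_of_sum_smul_eq_zero (R := B) (M := A) (f := f) (x := x) hrel
  let P : Matrix (Fin d) _ B := Matrix.of fun i => a (Sum.inl i)
  let Pk := P.map (residue B)
  have hP : ∀ i, e i = ∑ j, algebraMap B A (P i j) * y j := fun i => by
    rw [show e i = x (Sum.inl i) from rfl, hay]
    exact Finset.sum_congr rfl fun j _ => Algebra.smul_def _ _
  have hinj : Function.Injective Pk.vecMulLinear := by
    rw [injective_iff_map_eq_zero]
    intro v hv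
    choose w hw using fun i => residue_surjective (v i)
    funext i
    rw [Pi.zero_apply, ← hw i, residue_eq_zero_iff]
    refine hind w ?_ i
    have hj : ∀ j, ∑ i, w i * P i j ∈ maximalIdeal B := fun j => by
      rw [← residue_eq_zero_iff, map_sum]
      have := congrFun hv j
      simpa [Matrix.vecMul, dotProduct, Pk, ← hw] using this
    have e1 : ∑ i, algebraMap B A (w i) * e i = ∑ j, algebraMap B A (∑ i, w i * P i j) * y j := by
      simp only [hP, Finset.mul_sum, map_sum, map_mul, Finset.sum_mul, mul_assoc]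
      exact Finset.sum_comm
    rw [e1]
    exact sum_mem fun j _ => Ideal.mul_mem_right _ _
      ((IsLocalRing.maximalIdeal_comap (algebraMap B A)).ge (hj j))
  obtain ⟨g, hg⟩ := LinearMap.exists_leftInverse_of_injective _ (LinearMap.ker_eq_bot.2 hinj)
  choose Q hQ using fun j i => residue_surjective ((LinearMap.toMatrix' g).transpose j i)
  have hPQ : (P * Matrix.of Q).map (residue B) = 1 := by
    rw [Matrix.map_mul, show (Matrix.of Q).map (residue B) = (LinearMap.toMatrix' g).transpose from Matrix.ext hQ]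
    refine Matrix.ext_of_single_vecMul fun i => ?_
    rw [← Matrix.vecMul_vecMul, Matrix.vecMul_transpose, LinearMap.toMatrix'_mulVec, Matrix.vecMul_one]
    exact LinearMap.congr_fun hg _
  have hdet : IsUnit (P * Matrix.of Q).det := by
    refine (residue_ne_zero_iff_isUnit _).1 ?_
    rw [RingHom.map_det, RingHom.mapMatrix_apply, hPQ, Matrix.det_one]
    exact one_ne_zero
  have hbI : ∀ k, Matrix.vecMul b (P * Matrix.of Q) k ∈ I := fun k => by
    rw [← Matrix.vecMul_vecMul, Matrix.vecMul, dotProduct]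
    refine sum_mem fun j _ => Ideal.mul_mem_right _ I ?_
    have := hfa j
    rw [Fintype.sum_sum_type] at this
    show ∑ i, b i * a (Sum.inl i) j ∈ I
    rw [show ∑ i, b i * a (Sum.inl i) j = -∑ k : s, f (Sum.inr k) * a (Sum.inr k) j from eq_neg_of_add_eq_zero_left this]
    exact neg_mem (sum_mem fun k _ => Ideal.mul_mem_right _ _ (neg_mem k.1.2))
  intro i
  have : b = Matrix.vecMul (Matrix.vecMul b (P * Matrix.of Q)) (P * Matrix.of Q)⁻¹ := by
    rw [Matrix.vecMul_vecMul, Matrix.mul_nonsing_inv _ hdet, Matrix.vecMul_one]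
  rw [this]
  rw [Matrix.vecMul, dotProduct]
  exact sum_mem fun k _ => Ideal.mul_mem_right _ I (hbI k)

end Expansion

section Finite

variable {B₀ B : Type u} [CommRing B₀] [IsLocalRing B₀] [CommRing B] [IsLocalRing B] [IsNoetherianRing B]
  [Algebra B₀ B] [Module.Finite B₀ B]

/-- Maximal ideals of finite local algebras are nilpotent modulo the maximal ideal below. -/
theorem exists_pow_le_map : ∃ e : ℕ, maximalIdeal B ^ e ≤ (maximalIdeal B₀).map (algebraMap B₀ B) := by
  refine Ideal.exists_pow_le_of_le_radical_of_fg ?_ (IsNoetherian.noetherian _)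
  rw [Ideal.radical_eq_sInf]
  refine le_sInf fun Q hQ => ?_
  obtain ⟨hQ, hQp⟩ := hQ
  haveI := hQp
  have h1 : maximalIdeal B₀ ≤ Q.comap (algebraMap B₀ B) := Ideal.map_le_iff_le_comap.1 hQ
  have h2 : (Q.comap (algebraMap B₀ B)).IsMaximal := by
    rw [← (maximalIdeal.isMaximal B₀).eq_of_le (Ideal.comap_ne_top _ hQp.ne_top) h1]
    exact maximalIdeal.isMaximal B₀
  exact (eq_maximalIdeal (Ideal.isMaximal_of_isIntegral_of_isMaximal_comap Q h2)).ge

/-- Elements nearly fixed by finitely many linear maps are near fixed elements. -/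
theorem exists_near_fixed [IsNoetherianRing B₀] {ι : Type*} [Finite ι] (σ : ι → B →ₗ[B₀] B) (N : ℕ) :
    ∃ M : ℕ, ∀ b : B, (∀ g, σ g b - b ∈ maximalIdeal B ^ M) →
      ∃ b' : B, (∀ g, σ g b' = b') ∧ b - b' ∈ maximalIdeal B ^ N := by
  classical
  haveI := Fintype.ofFinite ι
  obtain ⟨e, he⟩ := exists_pow_le_map (B₀ := B₀) (B := B)
  let D : B →ₗ[B₀] (ι → B) := LinearMap.pi fun g => σ g - LinearMap.id
  obtain ⟨c, hc⟩ := (maximalIdeal B₀).exists_pow_inf_eq_pow_smul (LinearMap.range D)
  refine ⟨e * (N + c), fun b hb => ?_⟩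
  have h1 : D b ∈ maximalIdeal B₀ ^ (N + c) • (⊤ : Submodule B₀ (ι → B)) := by
    rw [← Finset.univ_sum_single (D b)]
    refine sum_mem fun g _ => ?_
    have h2 : D b g ∈ maximalIdeal B₀ ^ (N + c) • (⊤ : Submodule B₀ B) := by
      rw [Ideal.smul_top_eq_map, Submodule.restrictScalars_mem, Ideal.map_pow]
      have := hb g
      rw [pow_mul] at this
      exact Ideal.pow_right_mono he _ this
    have h3 : ∀ x : B, Pi.single g x = LinearMap.single B₀ (fun _ : ι => B) g x := fun _ => rfl
    rw [h3]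
    exact (smul_mono_right _ le_top : _ ≤ maximalIdeal B₀ ^ (N + c) • (⊤ : Submodule B₀ (ι → B)))
      ((Submodule.map_smul'' (maximalIdeal B₀ ^ (N + c)) (⊤ : Submodule B₀ B) (LinearMap.single B₀ (fun _ : ι => B) g)) ▸ Submodule.mem_map_of_mem h2)
  have h4 : D b ∈ maximalIdeal B₀ ^ N • LinearMap.range D := by
    have h5 : D b ∈ maximalIdeal B₀ ^ (N + c) • ⊤ ⊓ LinearMap.range D := ⟨h1, b, rfl⟩
    rw [hc (N + c) (Nat.le_add_left c N), Nat.add_sub_cancel] at h5
    exact (smul_mono_right _ inf_le_right : _ ≤ maximalIdeal B₀ ^ N • LinearMap.range D) h5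
  rw [LinearMap.range_eq_map, ← Submodule.map_smul''] at h4
  obtain ⟨z, hz, hzb⟩ := h4
  refine ⟨b - z, fun g => ?_, ?_⟩
  · have := congrFun hzb g
    simp only [D, LinearMap.pi_apply, LinearMap.sub_apply, LinearMap.id_apply] at this
    rw [map_sub, ← sub_eq_zero, sub_sub_sub_comm, this, sub_self]
  · rw [sub_sub_cancel]
    change z ∈ maximalIdeal B₀ ^ N • (⊤ : Submodule B₀ B) at hz
    rw [Ideal.smul_top_eq_map, Submodule.restrictScalars_mem, Ideal.map_pow] at hz
    refine Ideal.pow_right_mono (Ideal.map_le_iff_le_comap.2 fun r hr => ?_) N hz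
    haveI : ((maximalIdeal B).comap (algebraMap B₀ B)).IsMaximal :=
      Ideal.isMaximal_comap_of_isIntegral_of_isMaximal (maximalIdeal B)
    exact (IsLocalRing.eq_maximalIdeal ‹_›).ge hr

/-- Elements of a subring near zero are in high powers below. -/
theorem exists_comap_pow_le [IsNoetherianRing B₀] (hinj : Function.Injective (algebraMap B₀ B)) (n : ℕ) :
    ∃ N : ℕ, ∀ x : B₀, algebraMap B₀ B x ∈ maximalIdeal B ^ N → x ∈ maximalIdeal B₀ ^ n := by
  obtain ⟨e, he⟩ := exists_pow_le_map (B₀ := B₀) (B := B)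
  obtain ⟨c, hc⟩ := (maximalIdeal B₀).exists_pow_inf_eq_pow_smul (LinearMap.range (Algebra.linearMap B₀ B))
  refine ⟨e * (n + c), fun x hx => ?_⟩
  have h1 : algebraMap B₀ B x ∈ maximalIdeal B₀ ^ (n + c) • ⊤ ⊓ LinearMap.range (Algebra.linearMap B₀ B) := by
    refine ⟨?_, x, rfl⟩
    rw [SetLike.mem_coe, Ideal.smul_top_eq_map, Submodule.restrictScalars_mem, Ideal.map_pow]
    rw [pow_mul] at hx
    exact Ideal.pow_right_mono he _ hx
  rw [hc (n + c) (Nat.le_add_left c n), Nat.add_sub_cancel] at h1
  have h2 : algebraMap B₀ B x ∈ maximalIdeal B₀ ^ n • LinearMap.range (Algebra.linearMap B₀ B) :=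
    (smul_mono_right _ inf_le_right : _ ≤ maximalIdeal B₀ ^ n • LinearMap.range (Algebra.linearMap B₀ B)) h1
  rw [LinearMap.range_eq_map, ← Submodule.map_smul''] at h2
  obtain ⟨z, hz, hzx⟩ := h2
  rw [← hinj (a₁ := z) (a₂ := x) hzx]
  simpa using hz

end Finite

end Groth.Agent.H8Props.InertiaEtale
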