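import Groth.Agent.H8Props.InertiaEtale.Congr
import Groth.Agent.H8Props.InertiaEtale.Powers
import Groth.Agent.H8Props.FlatUnramified
import Mathlib.RingTheory.Etale.Descent

/-! Invariants of an equivariant flat unramified local map with purely inseparable residue actions. -/

set_option autoImplicit false
set_option linter.style.haveILetI false
universe u

open IsLocalRing TensorProduct

namespace Groth.Agent.H8Props.InertiaEtale

/-- A `k`-space spanned by a subfield over which it is purely inseparable. -/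
theorem mem_span_of_pow_mem {k l : Type u} [Field k] [Field l] [Algebra k l] [Algebra.IsSeparable k l]
    (W : Subring l) (q : ℕ) [ExpChar k q] (h : ∀ z : l, ∃ n : ℕ, z ^ q ^ n ∈ W) (z : l) :
    z ∈ Submodule.span k (W : Set l) := by
  obtain ⟨n, hn⟩ := h z
  have h1 := IntermediateField.adjoin_simple_eq_adjoin_pow_expChar_pow_of_isSeparable' k l z q n
  have h2 : z ∈ IntermediateField.adjoin k ({z ^ q ^ n} : Set l) := h1 ▸ IntermediateField.mem_adjoin_simple_self k z
  rw [← IntermediateField.mem_toSubalgebra, IntermediateField.adjoin_simple_toSubalgebra_of_isAlgebraic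
    (Algebra.IsAlgebraic.isAlgebraic _), ← Subalgebra.mem_toSubmodule, Algebra.adjoin_eq_span] at h2
  refine Submodule.span_mono ?_ h2
  intro x hx
  exact (Submonoid.closure_le (S := W.toSubmonoid)).2 (Set.singleton_subset_iff.2 hn) hx

variable {B₀ B A₀ A : Type u} [CommRing B₀] [CommRing B] [CommRing A₀] [CommRing A]
  [IsNoetherianRing B₀] [IsNoetherianRing B] [IsNoetherianRing A₀] [IsNoetherianRing A]
  [IsLocalRing B₀] [IsLocalRing B] [IsLocalRing A₀] [IsLocalRing A]
  [Algebra B₀ B] [Algebra A₀ A] [Algebra B A] [Algebra B₀ A₀] [Algebra B₀ A]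
  [IsScalarTower B₀ B A] [IsScalarTower B₀ A₀ A]
  [Module.Finite B₀ B] [Module.Finite A₀ A] [IsLocalHom (algebraMap B A)]

/-- Descent of flatness and unramifiedness to the invariants. -/
theorem flat_and_unramified_invariants
    (hB : Function.Injective (algebraMap B₀ B)) (hA : Function.Injective (algebraMap A₀ A))
    {ι : Type*} [Finite ι] (σ : ι → (B ≃ₐ[B₀] B)) (τ : ι → (A ≃ₐ[A₀] A))
    (hστ : ∀ g b, τ g (algebraMap B A b) = algebraMap B A (σ g b))
    (hfixB : ∀ b : B, (∀ g, σ g b = b) → b ∈ Set.range (algebraMap B₀ B))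
    [Module.Flat B A] (hmax : (maximalIdeal B).map (algebraMap B A) = maximalIdeal A)
    [Module.Finite (ResidueField B) (ResidueField A)] [Algebra.IsSeparable (ResidueField B) (ResidueField A)]
    (q : ℕ) [ExpChar (ResidueField B) q]
    (hres : ∀ z : ResidueField A, ∃ (n : ℕ) (a : A₀), residue A (algebraMap A₀ A a) = z ^ q ^ n) :
    ∃ _ : IsLocalHom (algebraMap B₀ A₀), Module.Flat B₀ A₀ ∧
      (maximalIdeal B₀).map (algebraMap B₀ A₀) = maximalIdeal A₀ ∧
      Algebra.IsSeparable (ResidueField B₀) (ResidueField A₀) ∧ Module.Finite (ResidueField B₀) (ResidueField A₀) := by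
  classical
  haveI hlA : IsLocalHom (algebraMap A₀ A) := RingHom.IsIntegral.isLocalHom Algebra.IsIntegral.isIntegral hA
  haveI hlB : IsLocalHom (algebraMap B₀ B) := RingHom.IsIntegral.isLocalHom Algebra.IsIntegral.isIntegral hB
  haveI hl0 : IsLocalHom (algebraMap B₀ A) := by
    rw [IsScalarTower.algebraMap_eq B₀ B A]; infer_instance
  haveI hl : IsLocalHom (algebraMap B₀ A₀) := by
    refine ⟨fun b hb => ?_⟩
    have := hb.map (algebraMap A₀ A)
    rw [← IsScalarTower.algebraMap_apply] at this
    exact isUnit_of_map_unit _ _ this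
  refine ⟨hl, ?_⟩
  let k := ResidueField B
  let l := ResidueField A
  let W : Subring l := ((residue A).comp (algebraMap A₀ A)).range
  have hspanW : Submodule.span k (W : Set l) = ⊤ := eq_top_iff.2 fun z _ =>
    mem_span_of_pow_mem W q (fun z => by
      obtain ⟨n, a, h⟩ := hres z
      exact ⟨n, a, h⟩) z
  obtain ⟨t, htW, htspan, htli⟩ := exists_linearIndependent k (W : Set l)
  have htfin : t.Finite := Set.finite_coe_iff.1 htli.finite
  haveI := htfin.fintype
  let ε := Fintype.equivFin t
  choose e he using fun i => RingHom.mem_range.1 (htW (ε.symm i).2)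
  let eA : Fin (Fintype.card t) → A := fun i => algebraMap A₀ A (e i)
  have hli : LinearIndependent k fun i => residue A (eA i) := by
    have h := htli.comp ε.symm ε.symm.injective
    rwa [show ((Subtype.val : t → l) ∘ ε.symm) = fun i => residue A (eA i) from funext fun i => (he i).symm] at h
  have hsp : Submodule.span k (Set.range fun i => residue A (eA i)) = ⊤ := by
    rw [← hspanW, ← htspan]
    congr 1
    ext z
    exact ⟨fun ⟨i, hi⟩ => hi ▸ (he i ▸ (ε.symm i).2 : residue A (eA i) ∈ t),
      fun hz => ⟨ε ⟨z, hz⟩, by show ((residue A).comp (algebraMap A₀ A)) (e _) = z; rw [he, ε.symm_apply_apply]⟩⟩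
  have hsum : ∀ b : Fin (Fintype.card t) → B,
      residue A (∑ i, algebraMap B A (b i) * eA i) = ∑ i, residue B (b i) • residue A (eA i) := fun b => by
    rw [map_sum]
    refine Finset.sum_congr rfl fun i _ => ?_
    rw [map_mul, Algebra.smul_def]
    rfl
  have hspanA : ∀ a, ∃ b : Fin (Fintype.card t) → B, a - ∑ i, algebraMap B A (b i) * eA i ∈ maximalIdeal A := fun a => by
    obtain ⟨c, hc⟩ := (Submodule.mem_span_range_iff_exists_fun k).1 (hsp ▸ Submodule.mem_top : residue A a ∈ _)
    choose b hb using fun i => residue_surjective (c i)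
    refine ⟨b, ?_⟩
    rw [← residue_eq_zero_iff, map_sub, hsum, ← hc, sub_eq_zero]
    exact (Finset.sum_congr rfl fun i _ => by rw [hb]).symm
  have hindA : ∀ b : Fin (Fintype.card t) → B, ∑ i, algebraMap B A (b i) * eA i ∈ maximalIdeal A →
      ∀ i, b i ∈ maximalIdeal B := fun b hb i => by
    rw [← residue_eq_zero_iff, hsum] at hb
    exact (residue_eq_zero_iff _).1 (Fintype.linearIndependent_iff.1 hli _ hb i)
  have hindn : ∀ (n : ℕ) (b : Fin (Fintype.card t) → B), ∑ i, algebraMap B A (b i) * eA i ∈ maximalIdeal A ^ n →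
      ∀ i, b i ∈ maximalIdeal B ^ n := fun n b hb => by
    rw [← hmax, ← Ideal.map_pow] at hb
    exact mem_of_expansion_mem_map eA hindA _ b hb
  have hcast : ∀ a : Fin (Fintype.card t) → B₀, algebraMap A₀ A (∑ i, algebraMap B₀ A₀ (a i) * e i) =
      ∑ i, algebraMap B A (algebraMap B₀ B (a i)) * eA i := fun a => by
    rw [map_sum]
    refine Finset.sum_congr rfl fun i _ => ?_
    rw [map_mul, ← IsScalarTower.algebraMap_apply B₀ A₀ A, IsScalarTower.algebraMap_apply B₀ B A]
  have hpowA : ∀ (n : ℕ) (x : A₀), x ∈ maximalIdeal A₀ ^ n → algebraMap A₀ A x ∈ maximalIdeal A ^ n :=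
    fun n x hx => map_pow_le_pow n (Ideal.mem_map_of_mem _ hx)
  have hsurj : ∀ (a : A₀) (n : ℕ), ∃ c : Fin (Fintype.card t) → B₀,
      a - ∑ i, algebraMap B₀ A₀ (c i) * e i ∈ maximalIdeal A₀ ^ n := fun a n => by
    obtain ⟨N, hN⟩ := exists_comap_pow_le (B₀ := A₀) (B := A) hA n
    obtain ⟨M, hM⟩ := exists_near_fixed (B₀ := B₀) (B := B) (fun g => (σ g).toLinearMap) N
    obtain ⟨b, hb⟩ := exists_expansion hmax eA hspanA (max M N) (algebraMap A₀ A a)
    have hτ : ∀ g i, σ g (b i) - b i ∈ maximalIdeal B ^ M := fun g => by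
      refine hindn M _ ?_
      have hle : (maximalIdeal A).map (τ g : A →+* A) ≤ maximalIdeal A := by
        rw [Ideal.map_le_iff_le_comap]
        intro x hx hu
        exact hx (by simpa using hu.map ((τ g).symm : A →+* A))
      have h1 : τ g (algebraMap A₀ A a - ∑ i, algebraMap B A (b i) * eA i) ∈ maximalIdeal A ^ max M N := by
        refine (Ideal.pow_right_mono hle _) ?_
        rw [← Ideal.map_pow]
        exact Ideal.mem_map_of_mem (τ g : A →+* A) hb
      have h2 : τ g (algebraMap A₀ A a - ∑ i, algebraMap B A (b i) * eA i) =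
          algebraMap A₀ A a - ∑ i, algebraMap B A (σ g (b i)) * eA i := by
        simp only [map_sub, map_sum, map_mul, AlgEquiv.commutes, hστ, eA]
      rw [h2] at h1
      refine Ideal.pow_le_pow_right (le_max_left M N) ?_
      have := sub_mem hb h1
      rw [sub_sub_sub_cancel_left, ← Finset.sum_sub_distrib] at this
      simpa only [map_sub, sub_mul] using this
    choose b' hfix hb' using fun i => hM (b i) fun g => hτ g i
    choose c hc using fun i => hfixB (b' i) (hfix i)
    refine ⟨c, hN _ ?_⟩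
    rw [map_sub, hcast]
    have h3 : algebraMap A₀ A a - ∑ i, algebraMap B A (algebraMap B₀ B (c i)) * eA i =
        (algebraMap A₀ A a - ∑ i, algebraMap B A (b i) * eA i) + ∑ i, algebraMap B A (b i - b' i) * eA i := by
      simp only [hc, map_sub, sub_mul, Finset.sum_sub_distrib]
      ring
    rw [h3]
    refine add_mem (Ideal.pow_le_pow_right (le_max_right M N) hb) (sum_mem fun i _ => Ideal.mul_mem_right _ _ ?_)
    rw [← hmax, ← Ideal.map_pow]
    exact Ideal.mem_map_of_mem _ (hb' i)
  have hinj : ∀ n : ℕ, ∃ N : ℕ, ∀ a : Fin (Fintype.card t) → B₀,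
      ∑ i, algebraMap B₀ A₀ (a i) * e i ∈ maximalIdeal A₀ ^ N → ∀ i, a i ∈ maximalIdeal B₀ ^ n := fun n => by
    obtain ⟨N, hN⟩ := exists_comap_pow_le (B₀ := B₀) (B := B) hB n
    exact ⟨N, fun a ha i => hN _ (hindn N _ (hcast a ▸ hpowA N _ ha) i)⟩
  have hinj0 : ∀ a : Fin (Fintype.card t) → B₀,
      ∑ i, algebraMap B₀ A₀ (a i) * e i ∈ maximalIdeal A₀ → ∀ i, a i ∈ maximalIdeal B₀ := fun a ha i => by
    have h2 : ∑ i, algebraMap B A (algebraMap B₀ B (a i)) * eA i ∈ maximalIdeal A := by
      rw [← hcast]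
      exact (IsLocalRing.maximalIdeal_comap (algebraMap A₀ A)).ge ha
    have h1 := hindA _ h2 i
    exact fun hu => h1 (hu.map (algebraMap B₀ B))
  have hmap := map_maximalIdeal_of_congr_pow e (fun x => hsurj x 2) hinj0
  refine ⟨flat_of_congr_pow e hsurj hinj, hmap, ?_⟩
  -- the residue fields
  let k₀ := ResidueField B₀
  let l₀ := ResidueField A₀
  have hsum0 : ∀ c : Fin (Fintype.card t) → B₀,
      residue A₀ (∑ i, algebraMap B₀ A₀ (c i) * e i) = ∑ i, residue B₀ (c i) • residue A₀ (e i) := fun c => by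
    rw [map_sum]
    refine Finset.sum_congr rfl fun i _ => ?_
    rw [map_mul, Algebra.smul_def]
    rfl
  have hsp0 : ⊤ ≤ Submodule.span k₀ (Set.range fun i => residue A₀ (e i)) := fun z _ => by
    obtain ⟨a, rfl⟩ := residue_surjective z
    obtain ⟨c, hc⟩ := hsurj a 1
    rw [pow_one, ← residue_eq_zero_iff, map_sub, hsum0, sub_eq_zero] at hc
    rw [hc]
    exact sum_mem fun i _ => Submodule.smul_mem _ _ (Submodule.subset_span ⟨i, rfl⟩)
  have hli0 : LinearIndependent k₀ fun i => residue A₀ (e i) := Fintype.linearIndependent_iff.2 fun g hg i => by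
    choose c hc using fun i => residue_surjective (g i)
    rw [← hc i, residue_eq_zero_iff]
    refine hinj0 c ((residue_eq_zero_iff _).1 ?_) i
    rw [hsum0]
    simpa only [hc] using hg
  let bas0 := Module.Basis.mk hli0 hsp0
  haveI : Module.Finite k₀ l₀ := Module.Finite.of_basis bas0
  refine ⟨?_, inferInstance⟩
  haveI : IsScalarTower k₀ k l := IsScalarTower.of_algebraMap_eq fun x => by
    obtain ⟨x, rfl⟩ := residue_surjective x
    exact congrArg (residue A) (IsScalarTower.algebraMap_apply B₀ B A x)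
  haveI : IsScalarTower k₀ l₀ l := IsScalarTower.of_algebraMap_eq fun x => by
    obtain ⟨x, rfl⟩ := residue_surjective x
    exact congrArg (residue A) (IsScalarTower.algebraMap_apply B₀ A₀ A x)
  let φ : k ⊗[k₀] l₀ →ₐ[k] l := Algebra.TensorProduct.lift (Algebra.ofId k l) (IsScalarTower.toAlgHom k₀ l₀ l)
    fun _ _ => Commute.all _ _
  let bas : Module.Basis (Fin (Fintype.card t)) k l := Module.Basis.mk hli hsp.ge
  have hφ : φ.toLinearMap = ((bas0.baseChange k).equiv bas (Equiv.refl _)).toLinearMap :=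
    (bas0.baseChange k).ext fun i => by
      rw [LinearEquiv.coe_coe, Module.Basis.equiv_apply, AlgHom.toLinearMap_apply, Module.Basis.baseChange_apply]
      show φ (1 ⊗ₜ bas0 i) = bas i
      simp only [φ, Algebra.TensorProduct.lift_tmul, map_one, one_mul, bas, bas0, Module.Basis.mk_apply]
      rfl
  have hφb : Function.Bijective φ := by
    have := ((bas0.baseChange k).equiv bas (Equiv.refl _)).bijective
    rwa [← LinearEquiv.coe_toLinearMap, ← hφ] at this
  haveI : Algebra.FormallyUnramified k l := Algebra.FormallyUnramified.of_isSeparable k l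
  haveI : Algebra.FormallyUnramified k (k ⊗[k₀] l₀) :=
    Algebra.FormallyUnramified.of_equiv (AlgEquiv.ofBijective φ hφb).symm
  haveI : Algebra.FormallyUnramified k₀ l₀ :=
    Algebra.FormallyUnramified.of_formallyUnramified_tensorProduct_of_faithfullyFlat k
  exact Algebra.FormallyUnramified.isSeparable k₀ l₀

end Groth.Agent.H8Props.InertiaEtale
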