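import Groth.Agent.H8Props.InertiaEtale.Residue
import Groth.Agent.H8Props.InertiaEtale.Local
import Groth.Agent.S9560

/-! Invariants are étale at a point fixed with trivial residual action. -/

set_option autoImplicit false
set_option linter.style.haveILetI false
universe u v

open IsLocalRing

namespace Groth.Agent.H8Props.InertiaEtale

section OneRing

variable {A₀ A : Type u} [CommRing A₀] [CommRing A] [Algebra A₀ A] {G : Type v} [Group G] [Finite G]
  [MulSemiringAction G A] [SMulCommClass G A₀ A] [Algebra.IsInvariant A₀ A G]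
  (x₀ : Ideal A₀) [x₀.IsPrime] (x : Ideal A) [x.IsPrime] [x.LiesOver x₀]
  [Algebra (Localization.AtPrime x₀) (Localization.AtPrime x)] [Localization.AtPrime.IsLiesOverAlgebra x₀ x]
  (hx : ∀ g : G, ∀ a ∈ x, g • a ∈ x)

include hx

omit [SMulCommClass G A₀ A] [Algebra (Localization.AtPrime x₀) (Localization.AtPrime x)]
  [Localization.AtPrime.IsLiesOverAlgebra x₀ x] in
theorem isLocalization_below : IsLocalization (Algebra.algebraMapSubmonoid A x₀.primeCompl) (Localization.AtPrime x) := by
  obtain rfl : x₀ = x.under A₀ := x.over_def x₀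
  exact isLocalization_algebraMapSubmonoid (G := G) x hx _

theorem finite_localization [Module.Finite A₀ A] : Module.Finite (Localization.AtPrime x₀) (Localization.AtPrime x) := by
  haveI := isLocalization_below (G := G) x₀ x hx
  exact Module.Finite.of_isLocalization A₀ A x₀.primeCompl

theorem injective_localization (hinj : Function.Injective (algebraMap A₀ A)) :
    Function.Injective (algebraMap (Localization.AtPrime x₀) (Localization.AtPrime x)) := by
  haveI := isLocalization_below (G := G) x₀ x hx
  rw [injective_iff_map_eq_zero]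
  intro z hz
  obtain ⟨a, s, rfl⟩ := IsLocalization.exists_mk'_eq x₀.primeCompl z
  have h1 : algebraMap A (Localization.AtPrime x) (algebraMap A₀ A a) = 0 := by
    have h2 := congrArg (algebraMap (Localization.AtPrime x₀) (Localization.AtPrime x))
      (IsLocalization.mk'_spec (Localization.AtPrime x₀) a s)
    rw [map_mul, hz, zero_mul, ← IsScalarTower.algebraMap_apply, IsScalarTower.algebraMap_apply A₀ A] at h2
    exact h2.symm
  obtain ⟨⟨_, t, ht, rfl⟩, h3⟩ := (IsLocalization.map_eq_zero_iff (Algebra.algebraMapSubmonoid A x₀.primeCompl) _ _).1 h1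
  rw [IsLocalization.mk'_eq_zero_iff]
  exact ⟨⟨t, ht⟩, hinj (by rw [map_mul, map_zero]; exact h3)⟩

omit [Finite G] [x₀.IsPrime] [SMulCommClass G A₀ A] [Algebra.IsInvariant A₀ A G] in
theorem map_toRingEquiv_primeCompl (g : G) :
    x.primeCompl.map (MulSemiringAction.toRingEquiv G A g) = x.primeCompl := by
  ext a
  rw [Submonoid.mem_map]
  exact ⟨fun ⟨b, hb, e⟩ => e ▸ fun h => hb (by
      have := hx g⁻¹ _ h
      exact (inv_smul_smul g b).symm ▸ (this : g⁻¹ • (g • b) ∈ x)),
    fun ha => ⟨g⁻¹ • a, fun h => ha (by simpa using hx g _ h), smul_inv_smul g a⟩⟩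

/-- The ring automorphism of the local ring at a fixed prime. -/
noncomputable def locEquiv (g : G) : Localization.AtPrime x ≃+* Localization.AtPrime x :=
  IsLocalization.ringEquivOfRingEquiv (M := x.primeCompl) (T := x.primeCompl)
    (Localization.AtPrime x) (Localization.AtPrime x) (MulSemiringAction.toRingEquiv G A g)
    (map_toRingEquiv_primeCompl x hx g)

omit [Finite G] [SMulCommClass G A₀ A] [Algebra.IsInvariant A₀ A G] in
theorem locEquiv_algebraMap (g : G) (a : A) :
    locEquiv x hx g (algebraMap A (Localization.AtPrime x) a) = algebraMap A (Localization.AtPrime x) (g • a) := by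
  rw [locEquiv, IsLocalization.ringEquivOfRingEquiv_eq]
  rfl

omit [Finite G] [Algebra.IsInvariant A₀ A G] in
theorem locEquiv_commutes (g : G) (z : Localization.AtPrime x₀) :
    locEquiv x hx g (algebraMap (Localization.AtPrime x₀) (Localization.AtPrime x) z) =
      algebraMap (Localization.AtPrime x₀) (Localization.AtPrime x) z := by
  have h : ((locEquiv x hx g : _ ≃+* _) : _ →+* _).comp (algebraMap (Localization.AtPrime x₀) (Localization.AtPrime x)) =
      algebraMap (Localization.AtPrime x₀) (Localization.AtPrime x) := by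
    refine IsLocalization.ringHom_ext x₀.primeCompl (RingHom.ext fun a => ?_)
    simp only [RingHom.comp_apply, RingHom.coe_coe]
    rw [← IsScalarTower.algebraMap_apply A₀ (Localization.AtPrime x₀) (Localization.AtPrime x),
      IsScalarTower.algebraMap_apply A₀ A (Localization.AtPrime x), locEquiv_algebraMap, smul_algebraMap]
  exact RingHom.congr_fun h z

/-- The action on the local ring at a fixed prime. -/
noncomputable def locAct (g : G) : Localization.AtPrime x ≃ₐ[Localization.AtPrime x₀] Localization.AtPrime x :=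
  AlgEquiv.ofRingEquiv (f := locEquiv x hx g) (locEquiv_commutes x₀ x hx g)

theorem locAct_algebraMap (g : G) (a : A) :
    locAct (G := G) x₀ x hx g (algebraMap A (Localization.AtPrime x) a) =
      algebraMap A (Localization.AtPrime x) (g • a) :=
  locEquiv_algebraMap x hx g a

theorem fixed_mem_range (b : Localization.AtPrime x) (hb : ∀ g, locAct (G := G) x₀ x hx g b = b) :
    b ∈ Set.range (algebraMap (Localization.AtPrime x₀) (Localization.AtPrime x)) := by
  classical
  haveI := Fintype.ofFinite G
  haveI := isLocalization_below (G := G) x₀ x hx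
  obtain ⟨a, ⟨_, s, hs, rfl⟩, rfl⟩ := IsLocalization.exists_mk'_eq (Algebra.algebraMapSubmonoid A x₀.primeCompl) b
  have h1 : ∀ g, ∃ t ∈ x₀.primeCompl, algebraMap A₀ A t * (g • a) = algebraMap A₀ A t * a := fun g => by
    have h := hb g
    set M := Algebra.algebraMapSubmonoid A x₀.primeCompl
    set L := Localization.AtPrime x
    have hsp : IsLocalization.mk' L a (⟨algebraMap A₀ A s, s, hs, rfl⟩ : M) * algebraMap A L (algebraMap A₀ A s) =
        algebraMap A L a := IsLocalization.mk'_spec L a (⟨algebraMap A₀ A s, s, hs, rfl⟩ : M)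
    have h2 := congrArg (locAct (G := G) x₀ x hx g) hsp
    rw [map_mul, h, locAct_algebraMap, locAct_algebraMap, smul_algebraMap, hsp] at h2
    obtain ⟨⟨_, t, ht, rfl⟩, h3⟩ := IsLocalization.exists_of_eq (M := M) h2.symm
    exact ⟨t, ht, h3⟩
  choose t ht hta using h1
  have hfix : ∀ g : G, g • (algebraMap A₀ A (∏ k, t k) * a) = algebraMap A₀ A (∏ k, t k) * a := fun g => by
    rw [smul_mul', smul_algebraMap, ← Finset.prod_erase_mul _ _ (Finset.mem_univ g), map_mul, mul_assoc, mul_assoc, hta]
  obtain ⟨c, hc⟩ := Algebra.IsInvariant.isInvariant (A := A₀) (B := A) (G := G) _ hfix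
  refine ⟨IsLocalization.mk' _ c (⟨(∏ k, t k) * s, mul_mem (prod_mem fun k _ => ht k) hs⟩ : x₀.primeCompl), ?_⟩
  rw [IsLocalization.algebraMap_mk' (R := A₀) (S := A) (Rₘ := Localization.AtPrime x₀) (Sₘ := Localization.AtPrime x)
    c (⟨(∏ k, t k) * s, mul_mem (prod_mem fun k _ => ht k) hs⟩ : x₀.primeCompl), IsLocalization.mk'_eq_iff_eq]
  congr 1
  show algebraMap A₀ A s * algebraMap A₀ A c = algebraMap A₀ A ((∏ k, t k) * s) * a
  rw [hc, map_mul]
  ring

end OneRing

variable {B₀ B A₀ A : Type u} [CommRing B₀] [CommRing B] [CommRing A₀] [CommRing A]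
  [IsNoetherianRing B₀] [IsNoetherianRing B] [IsNoetherianRing A₀] [IsNoetherianRing A]
  [Algebra B₀ B] [Algebra A₀ A] [Algebra B A] [Algebra B₀ A₀] [Algebra B₀ A]
  [IsScalarTower B₀ B A] [IsScalarTower B₀ A₀ A]
  [Module.Finite B₀ B] [Module.Finite A₀ A] [Algebra.FiniteType B A] [Algebra.FiniteType B₀ A₀]
  {G : Type v} [Group G] [Finite G] [MulSemiringAction G A] [MulSemiringAction G B]
  [SMulCommClass G B₀ B] [Algebra.IsInvariant B₀ B G] [SMulCommClass G A₀ A] [Algebra.IsInvariant A₀ A G]

/-- Invariants are étale at a point fixed with trivial residual action. -/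
theorem isEtaleAt_of_trivial_residue
    (hB : Function.Injective (algebraMap B₀ B)) (hA : Function.Injective (algebraMap A₀ A))
    (hGeq : ∀ (g : G) (b : B), algebraMap B A (g • b) = g • algebraMap B A b)
    (x : Ideal A) [x.IsPrime] (htriv : ∀ (g : G) (a : A), g • a - a ∈ x) [Algebra.IsEtaleAt B x] :
    Algebra.IsEtaleAt B₀ (x.under A₀) := by
  classical
  let y := x.under B
  let x₀ := x.under A₀
  let y₀ := y.under B₀
  haveI : x₀.LiesOver y₀ := ⟨by
    show (x.under B).under B₀ = (x.under A₀).under B₀
    rw [Ideal.under_under, Ideal.under_under]⟩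
  haveI : x.LiesOver y₀ := ⟨by show (x.under B).under B₀ = x.under B₀; rw [Ideal.under_under]⟩
  have hxfix : ∀ g : G, ∀ a ∈ x, g • a ∈ x := fun g a ha => by simpa using add_mem (htriv g a) ha
  have hyfix : ∀ g : G, ∀ b ∈ y, g • b ∈ y := fun g b hb => by
    show algebraMap B A (g • b) ∈ x
    rw [hGeq]
    exact hxfix g _ hb
  letI := Localization.AtPrime.algebraOfLiesOver y x
  letI := Localization.AtPrime.algebraOfLiesOver y₀ y
  letI := Localization.AtPrime.algebraOfLiesOver x₀ x
  letI := Localization.AtPrime.algebraOfLiesOver y₀ x₀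
  letI := Localization.AtPrime.algebraOfLiesOver y₀ x
  let By := Localization.AtPrime y
  let B0y := Localization.AtPrime y₀
  let Ax := Localization.AtPrime x
  let A0x := Localization.AtPrime x₀
  haveI : IsScalarTower B0y By Ax := by
    refine IsScalarTower.of_algebraMap_eq' (IsLocalization.ringHom_ext y₀.primeCompl (RingHom.ext fun b => ?_))
    simp only [RingHom.comp_apply]
    rw [← IsScalarTower.algebraMap_apply B₀ B0y Ax, ← IsScalarTower.algebraMap_apply B₀ B0y By,
      IsScalarTower.algebraMap_apply B₀ B By, ← IsScalarTower.algebraMap_apply B By Ax,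
      ← IsScalarTower.algebraMap_apply B₀ B Ax]
  haveI : IsScalarTower B0y A0x Ax := by
    refine IsScalarTower.of_algebraMap_eq' (IsLocalization.ringHom_ext y₀.primeCompl (RingHom.ext fun b => ?_))
    simp only [RingHom.comp_apply]
    rw [← IsScalarTower.algebraMap_apply B₀ B0y Ax, ← IsScalarTower.algebraMap_apply B₀ B0y A0x,
      IsScalarTower.algebraMap_apply B₀ A₀ A0x, ← IsScalarTower.algebraMap_apply A₀ A0x Ax,
      ← IsScalarTower.algebraMap_apply B₀ A₀ Ax]
  haveI := finite_localization (G := G) y₀ y hyfix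
  haveI := finite_localization (G := G) x₀ x hxfix
  haveI : IsLocalHom (algebraMap By Ax) := by
    rw [Localization.AtPrime.IsLiesOverAlgebra.algebraMap_eq (p := y) (P := x)]
    exact Localization.isLocalHom_localRingHom y x _ (x.over_def y)
  obtain ⟨hflat, hmap, hfin, hsep⟩ := (Groth.Agent.S9560.result B A y x).1 inferInstance
  have hmax : (maximalIdeal By).map (algebraMap By Ax) = maximalIdeal Ax := by
    rw [← Localization.AtPrime.map_eq_maximalIdeal, Ideal.map_map, ← IsScalarTower.algebraMap_eq]
    exact hmap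
  haveI : Module.Finite (ResidueField By) (ResidueField Ax) := hfin
  haveI : Algebra.IsSeparable (ResidueField By) (ResidueField Ax) := hsep
  haveI := hflat
  haveI : ExpChar (ResidueField Ax) (ringExpChar (ResidueField By)) :=
    expChar_of_injective_algebraMap (algebraMap (ResidueField By) (ResidueField Ax)).injective _
  let φ : A →+* ResidueField Ax := (residue Ax).comp (algebraMap A Ax)
  have hφ : ∀ a, φ a = 0 ↔ a ∈ x := fun a => by
    show residue Ax (algebraMap A Ax a) = 0 ↔ _
    rw [residue_eq_zero_iff]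
    exact IsLocalization.AtPrime.to_map_mem_maximal_iff Ax x a
  have htrivφ : ∀ (g : G) (a : A), φ (g • a) = φ a := fun g a => by
    rw [← sub_eq_zero, ← map_sub, hφ]
    exact htriv g a
  have hres : ∀ z : ResidueField Ax, ∃ (n : ℕ) (a : A0x),
      residue Ax (algebraMap A0x Ax a) = z ^ (ringExpChar (ResidueField By)) ^ n := fun z => by
    obtain ⟨w, rfl⟩ := residue_surjective z
    haveI := isLocalization_below (G := G) x₀ x hxfix
    obtain ⟨a, ⟨_, s, hs, rfl⟩, rfl⟩ := IsLocalization.exists_mk'_eq (Algebra.algebraMapSubmonoid A x₀.primeCompl) w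
    obtain ⟨n, c, d, hd, hcd⟩ := exists_pow_mem_range (A₀ := A₀) (G := G) φ htrivφ
      (ringExpChar (ResidueField By)) a
    set Q := ringExpChar (ResidueField By) ^ n
    have hd' : d * s ^ Q ∈ x₀.primeCompl := mul_mem (fun h => hd ((hφ _).2 h)) (pow_mem hs Q)
    refine ⟨n, IsLocalization.mk' A0x c (⟨d * s ^ Q, hd'⟩ : x₀.primeCompl), ?_⟩
    have hne : φ (algebraMap A₀ A (d * s ^ Q)) ≠ 0 := fun h => hd' ((hφ _).1 h)
    refine mul_right_cancel₀ hne ?_
    have e1 := congrArg (fun t => residue Ax (algebraMap A0x Ax t))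
      (IsLocalization.mk'_spec A0x c (⟨d * s ^ Q, hd'⟩ : x₀.primeCompl))
    simp only [map_mul, ← IsScalarTower.algebraMap_apply A₀ A0x Ax] at e1
    have e2 := congrArg (residue Ax) (IsLocalization.mk'_spec Ax a
      (⟨algebraMap A₀ A s, s, hs, rfl⟩ : Algebra.algebraMapSubmonoid A x₀.primeCompl))
    rw [map_mul] at e2
    rw [show φ (algebraMap A₀ A (d * s ^ Q)) = residue Ax (algebraMap A₀ Ax (d * s ^ Q)) from
      congrArg (residue Ax) (IsScalarTower.algebraMap_apply A₀ A Ax _).symm]
    refine Eq.trans ?_ (e1.trans (?_ : _ = _))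
    · rw [map_mul, map_mul]
    · rw [IsScalarTower.algebraMap_apply A₀ A Ax c, show residue Ax (algebraMap A Ax (algebraMap A₀ A c)) = φ (algebraMap A₀ A c) from rfl,
        ← hcd, show φ a = residue Ax (algebraMap A Ax a) from rfl, ← e2]
      simp only [map_mul, map_pow, IsScalarTower.algebraMap_apply A₀ A Ax, φ, RingHom.comp_apply]
      ring
  obtain ⟨_, hflat', hmap', hsep', hfin'⟩ := flat_and_unramified_invariants (B₀ := B0y) (B := By) (A₀ := A0x) (A := Ax)
    (injective_localization (G := G) y₀ y hyfix hB) (injective_localization (G := G) x₀ x hxfix hA)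
    (fun g : G => locAct (G := G) y₀ y hyfix g) (fun g : G => locAct (G := G) x₀ x hxfix g) (fun g b => by
      have h : ((locAct (G := G) x₀ x hxfix g : Ax →+* Ax)).comp (algebraMap By Ax) =
          (algebraMap By Ax).comp (locAct (G := G) y₀ y hyfix g : By →+* By) := by
        refine IsLocalization.ringHom_ext y.primeCompl (RingHom.ext fun b => ?_)
        simp only [RingHom.comp_apply, RingHom.coe_coe]
        rw [locAct_algebraMap, ← IsScalarTower.algebraMap_apply, ← IsScalarTower.algebraMap_apply,
          IsScalarTower.algebraMap_apply B A Ax, IsScalarTower.algebraMap_apply B A Ax, locAct_algebraMap, hGeq]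
      exact RingHom.congr_fun h b)
    (fixed_mem_range (G := G) y₀ y hyfix) hmax (ringExpChar (ResidueField By)) hres
  refine (Groth.Agent.S9560.result B₀ A₀ y₀ x₀).2 ⟨hflat', ?_, hfin', hsep'⟩
  rw [← hmap', ← Localization.AtPrime.map_eq_maximalIdeal, Ideal.map_map, ← IsScalarTower.algebraMap_eq]

end Groth.Agent.H8Props.InertiaEtale
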