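import Groth.Agent.H8Props.InertiaEtale.Steps

/-! Equivariant étale maps preserving inertia induce étale maps of invariants. -/

set_option autoImplicit false
set_option linter.style.haveILetI false
set_option maxHeartbeats 800000
universe u

namespace Groth.Agent.H8Props.InertiaEtale

/-- Inclusion of invariants in the invariants of a subgroup. -/
def subgroupIncl (R A : Type u) [CommRing R] [CommRing A] [Algebra R A] (G : Type u) [Group G]
    [MulSemiringAction G A] [SMulCommClass G R A] (H : Subgroup G) :
    FixedPoints.subalgebra R A G →+* FixedPoints.subalgebra R A H where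
  toFun a := ⟨a.1, fun h => a.2 h.1⟩
  map_one' := rfl
  map_mul' _ _ := rfl
  map_zero' := rfl
  map_add' _ _ := rfl

theorem isEtaleAt_inertia (R A : Type u) [CommRing R] [CommRing A] [Algebra R A] (G : Type u) [Group G] [Finite G]
    [MulSemiringAction G A] [SMulCommClass G R A] (x : Ideal A) [x.IsPrime] (H : Subgroup G) (hH : H = x.inertia G) :
    letI := (subgroupIncl R A G H).toAlgebra
    Algebra.IsEtaleAt (FixedPoints.subalgebra R A G) (x.under (FixedPoints.subalgebra R A H)) :=
  isEtaleAt_inertia_subring G A x H hH

theorem isEtaleAt_invariants (R : Type u) [CommRing R]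
    [IsNoetherianRing R] (A B : Type u) [CommRing A] [CommRing B] [Algebra R A] [Algebra R B]
    [Algebra.FiniteType R A] [Algebra.FiniteType R B]
    (G : Type u) [Group G] [Finite G] [MulSemiringAction G A] [MulSemiringAction G B]
    [SMulCommClass G R A] [SMulCommClass G R B]
    [Algebra B A] [IsScalarTower R B A]
    (hGeq : ∀ (g : G) (b : B), algebraMap B A (g • b) = g • algebraMap B A b)
    [Algebra (FixedPoints.subalgebra R B G) (FixedPoints.subalgebra R A G)]
    [IsScalarTower (FixedPoints.subalgebra R B G) (FixedPoints.subalgebra R A G) A]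
    (x : Ideal A) [x.IsPrime] (hx : Algebra.IsEtaleAt B x)
    (hin : x.inertia G = (x.comap (algebraMap B A)).inertia G) :
    Algebra.IsEtaleAt (FixedPoints.subalgebra R B G)
      (x.comap (algebraMap (FixedPoints.subalgebra R A G) A)) := by
  let H := x.inertia G
  let AG := FixedPoints.subalgebra R A G
  let BG := FixedPoints.subalgebra R B G
  let AH := FixedPoints.subalgebra R A H
  let BH := FixedPoints.subalgebra R B H
  haveI := finiteType_subalgebra R A G
  haveI := finiteType_subalgebra R B G
  haveI := finiteType_subalgebra R A H
  haveI := finiteType_subalgebra R B H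
  haveI := isNoetherianRing_subalgebra R A G
  haveI := isNoetherianRing_subalgebra R B G
  haveI := isNoetherianRing_subalgebra R A H
  haveI := isNoetherianRing_subalgebra R B H
  haveI := finite_subalgebra R A H
  haveI := finite_subalgebra R B H
  haveI := isInvariant_subalgebra R A H
  haveI := isInvariant_subalgebra R B H
  haveI := smulCommClass_subalgebra R A H
  haveI := smulCommClass_subalgebra R B H
  haveI : IsNoetherianRing A := Algebra.FiniteType.isNoetherianRing R A
  haveI : IsNoetherianRing B := Algebra.FiniteType.isNoetherianRing R B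
  haveI : Algebra.FiniteType B A := Algebra.FiniteType.of_restrictScalars_finiteType R B A
  letI iA : Algebra AG AH := (subgroupIncl R A G H).toAlgebra
  letI iB : Algebra BG BH := (subgroupIncl R B G H).toAlgebra
  let f : BH →+* AH := ((algebraMap B A).comp BH.val.toRingHom).codRestrict AH.toSubring fun b h => by
    show (h : G) • algebraMap B A b.1 = algebraMap B A b.1
    rw [← hGeq]
    exact congrArg _ (b.2 h)
  letI iBA : Algebra BH AH := f.toAlgebra
  letI iBH : Algebra BG AH := ((algebraMap BH AH).comp (algebraMap BG BH)).toAlgebra
  haveI : IsScalarTower BG BH AH := IsScalarTower.of_algebraMap_eq fun _ => rfl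
  haveI : IsScalarTower BH AH A := IsScalarTower.of_algebraMap_eq fun _ => rfl
  haveI : IsScalarTower BH B A := IsScalarTower.of_algebraMap_eq fun _ => rfl
  haveI : IsScalarTower BG B A := IsScalarTower.of_algebraMap_eq fun _ => rfl
  haveI : IsScalarTower BG AG AH := IsScalarTower.of_algebraMap_eq fun b => Subtype.ext (by
    show algebraMap B A b.1 = ((algebraMap BG AG b : AG) : A)
    have := IsScalarTower.algebraMap_apply BG AG A b
    exact this)
  haveI : IsScalarTower AG AH A := IsScalarTower.of_algebraMap_eq fun _ => rfl
  haveI : IsScalarTower R BG BH := IsScalarTower.of_algebraMap_eq fun _ => rfl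
  haveI : IsScalarTower R BH AH := IsScalarTower.of_algebraMap_eq fun r =>
    Subtype.ext (IsScalarTower.algebraMap_apply R B A r)
  haveI : IsScalarTower R BG AG := IsScalarTower.of_algebraMap_eq fun r => Subtype.ext (by
    show algebraMap R A r = ((algebraMap BG AG (algebraMap R BG r) : AG) : A)
    refine (IsScalarTower.algebraMap_apply R B A r).trans ?_
    exact IsScalarTower.algebraMap_apply BG AG A (algebraMap R BG r))
  haveI : IsScalarTower R AG AH := IsScalarTower.of_algebraMap_eq fun _ => rfl
  haveI : Algebra.FiniteType BG AG := Algebra.FiniteType.of_restrictScalars_finiteType R BG AG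
  haveI : Algebra.FiniteType AG AH := Algebra.FiniteType.of_restrictScalars_finiteType R AG AH
  haveI : Algebra.FiniteType BH AH := Algebra.FiniteType.of_restrictScalars_finiteType R BH AH
  haveI := hx
  have h1 : Algebra.IsEtaleAt BH (x.under AH) :=
    isEtaleAt_of_trivial_residue (B₀ := BH) (B := B) (A₀ := AH) (A := A) (G := H)
      Subtype.val_injective Subtype.val_injective (fun g b => hGeq g b) x fun g a => g.2 a
  let P := x.under AH
  let p := (x.under B).under BH
  haveI : P.LiesOver p := ⟨by
    show (x.under B).under BH = (x.under AH).under BH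
    rw [Ideal.under_under, Ideal.under_under]⟩
  haveI : Algebra.IsEtaleAt BG p := isEtaleAt_inertia R B G (x.under B) H hin
  haveI : Algebra.IsEtaleAt BH P := h1
  have h2 : Algebra.IsEtaleAt BG P := Algebra.IsEtaleAt.comp p P
  have h3 : Algebra.IsEtaleAt AG P := isEtaleAt_inertia R A G x H rfl
  have h4 := isEtaleAt_descend (S := BG) (A := AG) (C := AH) P h2 h3
  have e : P.under AG = x.comap (algebraMap AG A) := Ideal.under_under x
  revert h4
  simp only [e]
  exact id

end Groth.Agent.H8Props.InertiaEtale
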