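import Mathlib

/-! Invariants of a finite group and localisation at a fixed prime. -/

set_option autoImplicit false
set_option linter.style.haveILetI false
universe u v

open Polynomial

namespace Groth.Agent.H8Props.InertiaEtale

/-- The coefficient of a power of a linear polynomial in the `p`-part. -/
theorem coeff_X_sub_C_pow {l : Type u} [CommRing l] (Q m : ℕ) (q : ℕ) [ExpChar l q] (n : ℕ) (hQ : Q = q ^ n) (hm : 0 < m)
    (c : l) : ((X - C c) ^ (Q * m)).coeff ((m - 1) * Q) = -(m : l) * c ^ Q := by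
  subst hQ
  rw [pow_mul, sub_pow_expChar_pow, ← C_pow,
    show (X ^ q ^ n - C (c ^ q ^ n) : l[X]) = expand l (q ^ n) (X - C (c ^ q ^ n)) by simp,
    ← map_pow, coeff_expand_mul (expChar_pow_pos l q n), sub_eq_add_neg, ← C_neg, coeff_X_add_C_pow]
  obtain ⟨j, rfl⟩ := Nat.exists_eq_add_one_of_ne_zero hm.ne'
  simp [mul_comm]
  ring

variable {A₀ A : Type u} [CommRing A₀] [CommRing A] [Algebra A₀ A] {G : Type v} [Group G] [Finite G]
  [MulSemiringAction G A] [Algebra.IsInvariant A₀ A G]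

/-- If the group acts trivially modulo a prime, residues are purely inseparable over the invariants. -/
theorem exists_pow_mem_range {l : Type u} [Field l] (φ : A →+* l) (htriv : ∀ (g : G) (a : A), φ (g • a) = φ a)
    (q : ℕ) [ExpChar l q] (a : A) :
    ∃ (n : ℕ) (c : A₀) (s : A₀), φ (algebraMap A₀ A s) ≠ 0 ∧
      φ a ^ q ^ n * φ (algebraMap A₀ A s) = φ (algebraMap A₀ A c) := by
  classical
  haveI := Fintype.ofFinite G
  set N := Fintype.card G with hN
  obtain ⟨n, m, hm, hNm, hml⟩ : ∃ n m : ℕ, 0 < m ∧ N = q ^ n * m ∧ (m : l) ≠ 0 := by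
    have hN0 : N ≠ 0 := Fintype.card_ne_zero
    rcases ‹ExpChar l q› with ⟨⟩ | ⟨hq, _⟩
    · exact ⟨0, N, Nat.pos_of_ne_zero hN0, by simp, Nat.cast_ne_zero.2 hN0⟩
    · obtain ⟨n, m, hqm, hNm⟩ := Nat.exists_eq_pow_mul_and_not_dvd hN0 q hq.ne_one
      exact ⟨n, m, Nat.pos_of_ne_zero fun h => hqm (h ▸ dvd_zero q), hNm,
        fun h => hqm ((CharP.cast_eq_zero_iff l q m).1 h)⟩
  obtain ⟨P, hP⟩ := (mem_lifts _).1 (Algebra.IsInvariant.charpoly_mem_lifts A₀ A G a)
  have hmap : (MulSemiringAction.charpoly G a).map φ = (X - C (φ a)) ^ N := by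
    rw [MulSemiringAction.charpoly_eq, Polynomial.map_prod]
    simp [htriv, hN]
  refine ⟨n, -P.coeff ((m - 1) * q ^ n), (m : A₀), ?_, ?_⟩
  · simpa only [map_natCast] using hml
  · have := congrArg (fun p : l[X] => p.coeff ((m - 1) * q ^ n)) hmap
    simp only [hNm, coeff_X_sub_C_pow _ m q n rfl hm, coeff_map, ← hP] at this
    rw [map_neg, map_neg, this, map_natCast, map_natCast]
    ring

/-- Elements outside a fixed prime divide invariant elements outside it. -/
theorem exists_invariant_multiple (x : Ideal A) [x.IsPrime] (hx : ∀ g : G, ∀ a ∈ x, g • a ∈ x) {s : A} (hs : s ∉ x) :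
    ∃ (N : A₀) (t : A), algebraMap A₀ A N = t * s ∧ N ∉ x.under A₀ := by
  classical
  haveI := Fintype.ofFinite G
  have hfix : ∀ g : G, g • (∏ h : G, h • s) = ∏ h : G, h • s := fun g => by
    rw [Finset.smul_prod']
    exact Fintype.prod_equiv (Equiv.mulLeft g) _ _ fun h => by simp [mul_smul]
  obtain ⟨N, hN⟩ := Algebra.IsInvariant.isInvariant (A := A₀) (B := A) (G := G) _ hfix
  refine ⟨N, ∏ h ∈ Finset.univ.erase (1 : G), h • s, ?_, fun h => ?_⟩
  · rw [hN, ← Finset.prod_erase_mul _ _ (Finset.mem_univ (1 : G)), one_smul]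
  · rw [Ideal.under, Ideal.mem_comap, hN] at h
    obtain ⟨g, -, hg⟩ := (inferInstance : x.IsPrime).prod_mem_iff.1 h
    have := hx g⁻¹ _ hg
    rw [inv_smul_smul] at this
    exact hs this

/-- At a fixed prime, localising the ring is localising over the invariants. -/
theorem isLocalization_algebraMapSubmonoid (x : Ideal A) [x.IsPrime] (hx : ∀ g : G, ∀ a ∈ x, g • a ∈ x)
    (L : Type u) [CommRing L] [Algebra A L] [IsLocalization.AtPrime L x] :
    IsLocalization (Algebra.algebraMapSubmonoid A (x.under A₀).primeCompl) L := by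
  have hle : Algebra.algebraMapSubmonoid A (x.under A₀).primeCompl ≤ x.primeCompl := by
    rintro _ ⟨s, hs, rfl⟩
    exact hs
  refine (isLocalization_iff _ _).2 ⟨fun s => IsLocalization.map_units L (⟨_, hle s.2⟩ : x.primeCompl), fun z => ?_,
    fun h => ?_⟩
  · obtain ⟨⟨a, s⟩, hz⟩ := IsLocalization.surj x.primeCompl z
    obtain ⟨N, t, hN, hNx⟩ := exists_invariant_multiple (A₀ := A₀) (G := G) x hx s.2
    refine ⟨⟨t * a, ⟨algebraMap A₀ A N, N, hNx, rfl⟩⟩, ?_⟩
    show z * algebraMap A L (algebraMap A₀ A N) = algebraMap A L (t * a)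
    rw [hN, map_mul, map_mul, ← hz]
    ring
  · obtain ⟨s, hs⟩ := IsLocalization.exists_of_eq (M := x.primeCompl) h
    obtain ⟨N, t, hN, hNx⟩ := exists_invariant_multiple (A₀ := A₀) (G := G) x hx s.2
    refine ⟨⟨algebraMap A₀ A N, N, hNx, rfl⟩, ?_⟩
    show algebraMap A₀ A N * _ = algebraMap A₀ A N * _
    rw [hN, mul_assoc, mul_assoc, hs]

end Groth.Agent.H8Props.InertiaEtale
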