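import Groth.Agent.S0271
import Groth.Agent.S9560
import Groth.Agent.H7Flat.FibreCriterion
import Groth.Agent.H8Props.InertiaEtale.FixedPrime

/-! The step from invariants to inertia invariants, and descent along it. -/

set_option autoImplicit false
set_option linter.style.haveILetI false
universe u

open IsLocalRing

namespace Groth.Agent.H8Props.InertiaEtale

theorem isEtaleAt_inertia_subring (G A : Type u) [Group G] [Finite G] [CommRing A] [MulSemiringAction G A]
    (x : Ideal A) [x.IsPrime] (H : Subgroup G) (hH : H = x.inertia G) :
    Algebra.IsEtaleAt (FixedPoints.subring A G) (x.under (FixedPoints.subring A H)) := by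
  subst hH
  obtain ⟨g, hg, het⟩ := Groth.Agent.S0271.result G A x
  have hmem : (⟨x.under (FixedPoints.subring A (x.inertia G)), inferInstance⟩ :
      PrimeSpectrum (FixedPoints.subring A (x.inertia G))) ∈ PrimeSpectrum.basicOpen g := hg
  refine (Algebra.basicOpen_subset_etaleLocus_iff (R := FixedPoints.subring A G)).2 ?_ hmem
  exact het.formallyEtale

section Descent

variable {S A C : Type u} [CommRing S] [CommRing A] [CommRing C] [Algebra S A] [Algebra A C] [Algebra S C]
  [IsScalarTower S A C] [IsNoetherianRing S] [IsNoetherianRing A] [Algebra.FiniteType S A] [Algebra.FiniteType A C]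

/-- Étaleness descends along maps étale at the point. -/
theorem isEtaleAt_descend (Q : Ideal C) [Q.IsPrime] (h1 : Algebra.IsEtaleAt S Q) (h2 : Algebra.IsEtaleAt A Q) :
    Algebra.IsEtaleAt S (Q.under A) := by
  let q := Q.under A
  let p := Q.under S
  haveI : q.LiesOver p := ⟨by show Q.under S = (Q.under A).under S; rw [Ideal.under_under]⟩
  haveI : Algebra.FiniteType S C := Algebra.FiniteType.trans (R := S) (S := A) inferInstance inferInstance
  letI := Localization.AtPrime.algebraOfLiesOver q Q
  letI := Localization.AtPrime.algebraOfLiesOver p q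
  letI := Localization.AtPrime.algebraOfLiesOver p Q
  let Sp := Localization.AtPrime p
  let Aq := Localization.AtPrime q
  let CQ := Localization.AtPrime Q
  haveI : IsScalarTower Sp Aq CQ := by
    refine IsScalarTower.of_algebraMap_eq' (IsLocalization.ringHom_ext p.primeCompl (RingHom.ext fun b => ?_))
    simp only [RingHom.comp_apply]
    rw [← IsScalarTower.algebraMap_apply S Sp CQ, ← IsScalarTower.algebraMap_apply S Sp Aq,
      IsScalarTower.algebraMap_apply S A Aq, ← IsScalarTower.algebraMap_apply A Aq CQ,
      ← IsScalarTower.algebraMap_apply S A CQ]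
  obtain ⟨hf1, hm1, hr1, hs1⟩ := (Groth.Agent.S9560.result S C p Q).1 h1
  obtain ⟨hf2, hm2, hr2, hs2⟩ := (Groth.Agent.S9560.result A C q Q).1 h2
  haveI : IsLocalHom (algebraMap Aq CQ) := by
    rw [Localization.AtPrime.IsLiesOverAlgebra.algebraMap_eq (p := q) (P := Q)]
    exact Localization.isLocalHom_localRingHom q Q _ (Q.over_def q)
  haveI : Module.FaithfullyFlat Aq CQ := Module.FaithfullyFlat.of_flat_of_isLocalHom
  haveI : IsScalarTower p.ResidueField q.ResidueField Q.ResidueField := IsScalarTower.of_algebraMap_eq fun z => by
    obtain ⟨w, rfl⟩ := residue_surjective (R := Sp) z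
    exact congrArg (residue CQ) (IsScalarTower.algebraMap_apply Sp Aq CQ w)
  refine (Groth.Agent.S9560.result S A p q).2 ⟨?_, ?_, ?_, ?_⟩
  · haveI := hf1
    exact Groth.Agent.H7Flat.flat_of_faithfullyFlat (R := Sp) (S := Aq) (M := CQ)
  · have e : (p.map (algebraMap S Aq)).map (algebraMap Aq CQ) = (maximalIdeal Aq).map (algebraMap Aq CQ) := by
      rw [Ideal.map_map, ← IsScalarTower.algebraMap_eq, hm1, ← Localization.AtPrime.map_eq_maximalIdeal (I := q),
        Ideal.map_map, ← IsScalarTower.algebraMap_eq, hm2]
    have := congrArg (Ideal.comap (algebraMap Aq CQ)) e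
    rwa [Ideal.comap_map_eq_self_of_faithfullyFlat, Ideal.comap_map_eq_self_of_faithfullyFlat] at this
  · haveI := hr1
    exact FiniteDimensional.left p.ResidueField q.ResidueField Q.ResidueField
  · haveI := hs1
    exact Algebra.isSeparable_tower_bot_of_isSeparable p.ResidueField q.ResidueField Q.ResidueField

end Descent

section Subalgebra

variable (R A : Type u) [CommRing R] [IsNoetherianRing R] [CommRing A] [Algebra R A] [Algebra.FiniteType R A]
  (G : Type u) [Group G] [Finite G] [MulSemiringAction G A] [SMulCommClass G R A]

theorem isInvariant_subalgebra : Algebra.IsInvariant (FixedPoints.subalgebra R A G) A G :=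
  ⟨fun a ha => ⟨⟨a, ha⟩, rfl⟩⟩

theorem smulCommClass_subalgebra : SMulCommClass G (FixedPoints.subalgebra R A G) A :=
  ⟨fun g c a => by
    show g • ((c : A) * a) = (c : A) * g • a
    rw [smul_mul']
    exact congrArg (· * g • a) (c.2 g)⟩

theorem finite_subalgebra : Module.Finite (FixedPoints.subalgebra R A G) A := by
  haveI := isInvariant_subalgebra R A G
  haveI := smulCommClass_subalgebra R A G
  haveI : Algebra.IsIntegral (FixedPoints.subalgebra R A G) A := Algebra.IsInvariant.isIntegral _ A G
  haveI : Algebra.FiniteType (FixedPoints.subalgebra R A G) A :=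
    Algebra.FiniteType.of_restrictScalars_finiteType R _ A
  exact Algebra.IsIntegral.finite

theorem finiteType_subalgebra : Algebra.FiniteType R (FixedPoints.subalgebra R A G) := by
  haveI := finite_subalgebra R A G
  exact ⟨fg_of_fg_of_fg R (FixedPoints.subalgebra R A G) A Algebra.FiniteType.out Module.Finite.fg_top
    Subtype.val_injective⟩

theorem isNoetherianRing_subalgebra : IsNoetherianRing (FixedPoints.subalgebra R A G) := by
  haveI := finiteType_subalgebra R A G
  exact Algebra.FiniteType.isNoetherianRing R _

end Subalgebra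

end Groth.Agent.H8Props.InertiaEtale
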